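import Mathlib

/-!
# Relative finite presentation: basic transfer lemmas
-/

namespace Groth.Agent.Helper9.RelFP

open TensorProduct

/-- `M` is finitely presented over `P` through the ring hom `φ : P →+* A`. -/
def FPThrough {P A : Type*} [CommRing P] [CommRing A] (φ : P →+* A) (M : Type*)
    [AddCommGroup M] [Module A M] : Prop :=
  @Module.FinitePresentation P M _ _ (Module.compHom M φ)

section Bridge
variable {P A : Type*} [CommRing P] [CommRing A] [Algebra P A]
  {N : Type*} [AddCommGroup N] [Module A N] [Module P N] [IsScalarTower P A N]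

lemma compHom_eq : Module.compHom N (algebraMap P A) = ‹Module P N› :=
  Module.ext' _ _ (fun p n => algebraMap_smul A p n)

lemma fpThrough_iff : FPThrough (algebraMap P A) N ↔ Module.FinitePresentation P N := by
  unfold FPThrough
  rw [compHom_eq]

end Bridge

section Trans
variable {P' P : Type*} [CommRing P'] [CommRing P] [Algebra P' P]
  {N : Type*} [AddCommGroup N] [Module P N] [Module P' N] [IsScalarTower P' P N]

/-- restriction along a surjection with finitely generated kernel -/
lemma fp_of_surjective_of_fg_ker (hs : Function.Surjective (algebraMap P' P))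
    (hk : (RingHom.ker (algebraMap P' P)).FG) [Module.FinitePresentation P N] :
    Module.FinitePresentation P' N := by
  have : Module.FinitePresentation P' P := by
    refine Module.finitePresentation_of_surjective (Algebra.linearMap P' P) hs ?_
    have e : LinearMap.ker (Algebra.linearMap P' P) = RingHom.ker (algebraMap P' P) := by
      ext x; simp [RingHom.mem_ker]
    rw [e]; exact hk
  exact Module.FinitePresentation.trans P' N P

/-- descent along a surjection -/
lemma fp_of_fp_of_surjective (hs : Function.Surjective (algebraMap P' P))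
    [Module.FinitePresentation P' N] : Module.FinitePresentation P N := by
  classical
  have hfin : Module.Finite P N := Module.Finite.of_restrictScalars_finite P' P N
  obtain ⟨n, g, hg⟩ := Module.Finite.exists_fin' P N
  refine Module.finitePresentation_of_surjective g hg ?_
  -- the P'-linear map
  let ψ : (Fin n → P') →ₗ[P'] (Fin n → P) :=
    LinearMap.pi (fun i => (Algebra.linearMap P' P) ∘ₗ LinearMap.proj i)
  have hψ : Function.Surjective ψ := by
    intro x
    choose y hy using fun i => hs (x i)
    exact ⟨y, funext hy⟩
  let g' : (Fin n → P') →ₗ[P'] N := (g.restrictScalars P') ∘ₗ ψ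
  have hg' : Function.Surjective g' := hg.comp hψ
  have hk : (LinearMap.ker g').FG := Module.FinitePresentation.fg_ker g' hg'
  have hmap : (LinearMap.ker g').map ψ = (LinearMap.ker g).restrictScalars P' := by
    ext x
    constructor
    · rintro ⟨y, hy, rfl⟩
      exact hy
    · intro hx
      obtain ⟨y, rfl⟩ := hψ x
      exact ⟨y, hx, rfl⟩
  have hk2 : ((LinearMap.ker g).restrictScalars P').FG := by
    rw [← hmap]; exact hk.map ψ
  obtain ⟨G, hG⟩ := hk2
  refine ⟨G, ?_⟩
  apply le_antisymm
  · rw [Submodule.span_le]
    intro x hx
    have : x ∈ (LinearMap.ker g).restrictScalars P' := by rw [← hG]; exact Submodule.subset_span hx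
    exact this
  · intro x hx
    have : x ∈ Submodule.span P' (G : Set (Fin n → P)) := by rw [hG]; exact hx
    exact Submodule.span_le_restrictScalars P' P _ this

end Trans

section Quot
variable {P B B' : Type*} [CommRing P] [CommRing B] [CommRing B'] [Algebra P B] [Algebra B B']
  [Algebra P B'] [IsScalarTower P B B']
  {N : Type*} [AddCommGroup N] [Module B N] [Module P N] [IsScalarTower P B N]

/-- quotient of an f.p. module by `J N` for a f.g. ideal `J` -/
lemma fp_quot_smul_top (hs : Function.Surjective (algebraMap P B)) (J : Ideal B) (hJ : J.FG)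
    [Module.FinitePresentation P N] :
    Module.FinitePresentation P (N ⧸ (J • ⊤ : Submodule B N)) := by
  have hfin : Module.Finite B N := Module.Finite.of_restrictScalars_finite P B N
  refine Module.finitePresentation_of_surjective
    ((J • ⊤ : Submodule B N).mkQ.restrictScalars P)
    (Submodule.mkQ_surjective (J • ⊤ : Submodule B N)) ?_
  have e : LinearMap.ker ((J • ⊤ : Submodule B N).mkQ.restrictScalars P) =
      (J • ⊤ : Submodule B N).restrictScalars P := by
    ext x; simp
  rw [e]
  exact Submodule.FG.restrictScalars_of_surjective (Submodule.FG.smul hJ Module.Finite.fg_top) hs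

/-- tensoring with a quotient by a f.g. ideal preserves relative finite presentation -/
lemma fp_tensor_of_surjective (hs : Function.Surjective (algebraMap P B))
    (hs' : Function.Surjective (algebraMap B B')) (hk : (RingHom.ker (algebraMap B B')).FG)
    [Module.FinitePresentation P N] : Module.FinitePresentation P (B' ⊗[B] N) := by
  set J := RingHom.ker (algebraMap B B') with hJ
  have h1 := fp_quot_smul_top (P := P) (N := N) hs J hk
  let e1 : (B ⧸ J) ≃ₐ[B] B' := Ideal.quotientKerAlgEquivOfSurjective (f := Algebra.ofId B B') hs'
  let e2 : (B ⧸ J) ⊗[B] N ≃ₗ[B] B' ⊗[B] N :=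
    TensorProduct.congr e1.toLinearEquiv (LinearEquiv.refl B N)
  let e3 : (N ⧸ (J • ⊤ : Submodule B N)) ≃ₗ[B] B' ⊗[B] N :=
    (TensorProduct.quotTensorEquivQuotSMul N J).symm ≪≫ₗ e2
  exact Module.FinitePresentation.of_equiv (e3.restrictScalars P)

end Quot

section Poly
variable {P A : Type*} [CommRing P] [CommRing A] [Algebra P A]
  {M : Type*} [AddCommGroup M] [Module A M] [Module P M] [IsScalarTower P A M]
  (ι : Type*)

attribute [local instance] MvPolynomial.algebraMvPolynomial

lemma fp_poly_tensor [Module.FinitePresentation P M] :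
    Module.FinitePresentation (MvPolynomial ι P) (MvPolynomial ι A ⊗[A] M) :=
  Module.FinitePresentation.of_equiv
    (Algebra.IsPushout.cancelBaseChange P (MvPolynomial ι P) A (MvPolynomial ι A) M).symm

end Poly

section Through
variable {A : Type*} [CommRing A] {M : Type*} [AddCommGroup M] [Module A M]
  {P' P : Type*} [CommRing P'] [CommRing P]

lemma FPThrough.comp_surjective (φ : P →+* A) (ψ : P' →+* P) (hψ : Function.Surjective ψ)
    (hk : (RingHom.ker ψ).FG) (h : FPThrough φ M) : FPThrough (φ.comp ψ) M := by
  let _ : Module P M := Module.compHom M φ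
  let _ : Algebra P' P := ψ.toAlgebra
  let _ : Module P' M := Module.compHom M (φ.comp ψ)
  have : IsScalarTower P' P M := ⟨fun p' p m => by
    show φ (ψ p' * p) • m = (φ (ψ p')) • (φ p • m)
    rw [map_mul, mul_smul]⟩
  have : Module.FinitePresentation P M := h
  exact fp_of_surjective_of_fg_ker (P' := P') (P := P) (N := M) hψ hk

lemma FPThrough.of_comp_surjective (φ : P →+* A) (ψ : P' →+* P) (hψ : Function.Surjective ψ)
    (h : FPThrough (φ.comp ψ) M) : FPThrough φ M := by
  let _ : Module P M := Module.compHom M φ
  let _ : Algebra P' P := ψ.toAlgebra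
  let _ : Module P' M := Module.compHom M (φ.comp ψ)
  have : IsScalarTower P' P M := ⟨fun p' p m => by
    show φ (ψ p' * p) • m = (φ (ψ p')) • (φ p • m)
    rw [map_mul, mul_smul]⟩
  have : Module.FinitePresentation P' M := h
  exact fp_of_fp_of_surjective (P' := P') (P := P) (N := M) hψ

lemma FPThrough.of_equiv {M' : Type*} [AddCommGroup M'] [Module A M'] (φ : P →+* A)
    (e : M ≃ₗ[A] M') (h : FPThrough φ M) : FPThrough φ M' := by
  let _ : Module P M := Module.compHom M φ
  let _ : Module P M' := Module.compHom M' φ
  have : Module.FinitePresentation P M := h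
  let e' : M ≃ₗ[P] M' :=
    { e.toAddEquiv with
      map_smul' := fun p m => by
        show e (φ p • m) = φ p • e m
        exact e.map_smul _ _ }
  exact Module.FinitePresentation.of_equiv e'

end Through

section Indep
open MvPolynomial
variable {R A : Type*} [CommRing R] [CommRing A] [Algebra R A] {σ τ : Type*} [Finite σ] [Finite τ]
  {M : Type*} [AddCommGroup M] [Module A M]

/-- Independence of the presentation. -/
theorem FPThrough.indep (α : MvPolynomial σ R →ₐ[R] A) (hα : Function.Surjective α)
    (β : MvPolynomial τ R →ₐ[R] A) (hβ : Function.Surjective β)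
    (h : FPThrough α.toRingHom M) : FPThrough β.toRingHom M := by
  choose g hg using fun j : τ => hα (β (X j))
  choose k hk using fun i : σ => hβ (α (X i))
  let π₁ : MvPolynomial (σ ⊕ τ) R →ₐ[R] MvPolynomial σ R := aeval (Sum.elim X g)
  let π₂ : MvPolynomial (σ ⊕ τ) R →ₐ[R] MvPolynomial τ R := aeval (Sum.elim k X)
  have hπ₁ : Function.Surjective π₁ := by
    intro p
    refine ⟨rename Sum.inl p, ?_⟩
    show aeval (Sum.elim X g) (rename Sum.inl p) = p
    rw [aeval_rename]
    simp
  have hπ₂ : Function.Surjective π₂ := by
    intro p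
    refine ⟨rename Sum.inr p, ?_⟩
    show aeval (Sum.elim k X) (rename Sum.inr p) = p
    rw [aeval_rename]
    simp
  have hcomp : α.comp π₁ = β.comp π₂ := by
    apply MvPolynomial.algHom_ext
    rintro (i | j)
    · simp [π₁, π₂, hk]
    · simp [π₁, π₂, hg]
  have hker : (RingHom.ker π₁.toRingHom).FG :=
    Algebra.FinitePresentation.ker_fG_of_surjective π₁ hπ₁
  have h1 : FPThrough (α.toRingHom.comp π₁.toRingHom) M :=
    FPThrough.comp_surjective α.toRingHom π₁.toRingHom hπ₁ hker h
  have h2 : α.toRingHom.comp π₁.toRingHom = β.toRingHom.comp π₂.toRingHom := by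
    have := congrArg AlgHom.toRingHom hcomp
    exact this
  rw [h2] at h1
  exact FPThrough.of_comp_surjective β.toRingHom π₂.toRingHom hπ₂ h1

end Indep

end Groth.Agent.Helper9.RelFP
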