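import Mathlib
import Groth.Agent.Lib.Helper9.RelFP.Basic

/-!
# Relative finite presentation is stable under finitely presented base change of the algebra
-/

universe u

namespace Groth.Agent.Helper9.RelFP
open TensorProduct MvPolynomial

attribute [local instance] MvPolynomial.algebraMvPolynomial

lemma theta_eq {R A A' : Type u} [CommRing R] [CommRing A]
    [CommRing A'] [Algebra R A] [Algebra A A'] [Algebra R A'] [IsScalarTower R A A'] {n r : ℕ}
    (α : MvPolynomial (Fin n) R →ₐ[R] A) (f : MvPolynomial (Fin r) A →ₐ[A] A') :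
    (MvPolynomial.aeval (R := R) (Sum.elim (fun i => f (MvPolynomial.X i))
      (fun j => algebraMap A A' (α (MvPolynomial.X j))))).toRingHom =
    (f.toRingHom.comp (MvPolynomial.map α.toRingHom)).comp
      (MvPolynomial.sumAlgEquiv R (Fin r) (Fin n)).toAlgHom.toRingHom := by
  apply MvPolynomial.ringHom_ext
  · intro c
    show MvPolynomial.aeval _ (MvPolynomial.C c) =
      f (MvPolynomial.map α.toRingHom (MvPolynomial.sumAlgEquiv R (Fin r) (Fin n) (MvPolynomial.C c)))
    rw [MvPolynomial.sumAlgEquiv_C_inl, MvPolynomial.map_C, MvPolynomial.aeval_C]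
    show _ = f (MvPolynomial.C (α (MvPolynomial.C c)))
    rw [show α (MvPolynomial.C c) = algebraMap R A c from α.commutes c]
    rw [show f (MvPolynomial.C (algebraMap R A c)) = algebraMap A A' (algebraMap R A c) from
      f.commutes _, ← IsScalarTower.algebraMap_apply]
  · rintro (i | j)
    · show MvPolynomial.aeval _ (MvPolynomial.X (Sum.inl i)) =
        f (MvPolynomial.map α.toRingHom
          (MvPolynomial.sumAlgEquiv R (Fin r) (Fin n) (MvPolynomial.X (Sum.inl i))))
      rw [MvPolynomial.sumAlgEquiv_X_inl, MvPolynomial.map_X, MvPolynomial.aeval_X, Sum.elim_inl]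
    · show MvPolynomial.aeval _ (MvPolynomial.X (Sum.inr j)) =
        f (MvPolynomial.map α.toRingHom
          (MvPolynomial.sumAlgEquiv R (Fin r) (Fin n) (MvPolynomial.X (Sum.inr j))))
      rw [MvPolynomial.sumAlgEquiv_X_inr, MvPolynomial.map_C, MvPolynomial.aeval_X, Sum.elim_inr]
      show _ = f (MvPolynomial.C (α (MvPolynomial.X j)))
      exact (f.commutes _).symm

theorem FPThrough.baseChange_fp {R A A' : Type u} [CommRing R] [CommRing A]
    [CommRing A'] [Algebra R A] [Algebra A A'] [Algebra R A'] [IsScalarTower R A A']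
    [Algebra.FinitePresentation A A'] (M : Type u) [AddCommGroup M] [Module A M] {n k : ℕ}
    (α : MvPolynomial (Fin n) R →ₐ[R] A) (hα : Function.Surjective α)
    (hM : FPThrough α.toRingHom M)
    (γ : MvPolynomial (Fin k) R →ₐ[R] A') (hγ : Function.Surjective γ) :
    FPThrough γ.toRingHom (A' ⊗[A] M) := by
  obtain ⟨r, f, hf, hfk⟩ := Algebra.FinitePresentation.out (R := A) (A := A')
  let P := MvPolynomial (Fin n) R
  let _ : Algebra P A := α.toRingHom.toAlgebra
  let _ : Module P M := Module.compHom M α.toRingHom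
  have : IsScalarTower P A M := ⟨fun p a m => by
    show (α p * a) • m = α p • (a • m)
    rw [mul_smul]⟩
  have : Module.FinitePresentation P M := hM
  let B := MvPolynomial (Fin r) A
  let Pr := MvPolynomial (Fin r) P
  have h3 : Module.FinitePresentation Pr (B ⊗[A] M) := fp_poly_tensor (Fin r)
  let _ : Algebra B A' := f.toRingHom.toAlgebra
  let _ : Algebra Pr A' := ((algebraMap B A').comp (algebraMap Pr B)).toAlgebra
  have : IsScalarTower Pr B A' := IsScalarTower.of_algebraMap_eq' rfl
  have : IsScalarTower A B A' := IsScalarTower.of_algebraMap_eq' (by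
    ext a
    show algebraMap A A' a = f (MvPolynomial.C a)
    exact (f.commutes a).symm)
  have hs : Function.Surjective (algebraMap Pr B) := by
    show Function.Surjective (MvPolynomial.map (algebraMap P A))
    exact MvPolynomial.map_surjective _ hα
  have h4 : Module.FinitePresentation Pr (A' ⊗[B] (B ⊗[A] M)) :=
    fp_tensor_of_surjective (P := Pr) (B := B) (B' := A') (N := B ⊗[A] M) hs hf hfk
  let e : A' ⊗[B] (B ⊗[A] M) ≃ₗ[A'] A' ⊗[A] M :=
    TensorProduct.AlgebraTensorModule.cancelBaseChange A B A' A' M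
  have h5 : Module.FinitePresentation Pr (A' ⊗[A] M) :=
    Module.FinitePresentation.of_equiv (e.restrictScalars Pr)
  have h6 : FPThrough (algebraMap Pr A') (A' ⊗[A] M) := fpThrough_iff.mpr h5
  let ψ : MvPolynomial (Fin r ⊕ Fin n) R ≃ₐ[R] Pr := MvPolynomial.sumAlgEquiv R (Fin r) (Fin n)
  let θ : MvPolynomial (Fin r ⊕ Fin n) R →ₐ[R] A' :=
    MvPolynomial.aeval (Sum.elim (fun i => f (MvPolynomial.X i))
      (fun j => algebraMap A A' (α (MvPolynomial.X j))))
  have hθ : θ.toRingHom = (algebraMap Pr A').comp ψ.toAlgHom.toRingHom := theta_eq α f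
  have hθs : Function.Surjective θ := by
    have : (θ : MvPolynomial (Fin r ⊕ Fin n) R → A') =
        (algebraMap Pr A') ∘ ψ := by
      ext x
      exact congrArg (fun g : MvPolynomial (Fin r ⊕ Fin n) R →+* A' => g x) hθ
    rw [this]
    exact (hf.comp hs).comp ψ.surjective
  have h7 : FPThrough θ.toRingHom (A' ⊗[A] M) := by
    rw [hθ]
    refine FPThrough.comp_surjective (M := A' ⊗[A] M) (algebraMap Pr A') ψ.toAlgHom.toRingHom
      ψ.surjective ?_ h6
    have : RingHom.ker ψ.toAlgHom.toRingHom = ⊥ :=
      (RingHom.injective_iff_ker_eq_bot _).mp ψ.injective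
    rw [this]
    exact Submodule.fg_bot
  exact FPThrough.indep θ hθs γ hγ h7

end Groth.Agent.Helper9.RelFP
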