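import Mathlib
import Groth.Agent.Lib.Helper9.RelFP.BaseChange

/-!
# Relative finite presentation is local on the algebra
-/

universe u

namespace Groth.Agent.Helper9.RelFP

open TensorProduct MvPolynomial

section AwayMap
variable {P A : Type*} [CommRing P] [CommRing A]

lemma awayMap_surjective (φ : P →+* A) (hφ : Function.Surjective φ) (F : P) :
    Function.Surjective (Localization.awayMap φ F) := by
  intro z
  obtain ⟨y, ⟨_, m, rfl⟩, rfl⟩ := IsLocalization.exists_mk'_eq (Submonoid.powers (φ F)) z
  obtain ⟨x, rfl⟩ := hφ y
  refine ⟨IsLocalization.mk' _ x (⟨F ^ m, m, rfl⟩ : Submonoid.powers F), ?_⟩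
  rw [Localization.awayMap, IsLocalization.Away.map, IsLocalization.map_mk']
  congr 1
  ext
  simp

lemma away_eq_mul_invSelf_pow (F : P) (z : Localization.Away F) :
    ∃ (p : P) (m : ℕ), z = algebraMap P _ p * IsLocalization.Away.invSelf F ^ m := by
  obtain ⟨p, ⟨_, m, rfl⟩, rfl⟩ := IsLocalization.exists_mk'_eq (Submonoid.powers F) z
  refine ⟨p, m, ?_⟩
  have h1 : algebraMap P (Localization.Away F) F * IsLocalization.Away.invSelf F = 1 :=
    IsLocalization.Away.mul_invSelf F
  have h2 := IsLocalization.mk'_spec (Localization.Away F) p (⟨F ^ m, m, rfl⟩ : Submonoid.powers F)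
  simp only [map_pow] at h2
  calc IsLocalization.mk' (Localization.Away F) p (⟨F ^ m, m, rfl⟩ : Submonoid.powers F)
      = IsLocalization.mk' (Localization.Away F) p (⟨F ^ m, m, rfl⟩ : Submonoid.powers F) *
        (algebraMap P (Localization.Away F) F * IsLocalization.Away.invSelf F) ^ m := by
          rw [h1, one_pow, mul_one]
    _ = _ := by rw [mul_pow, ← mul_assoc, h2]

end AwayMap

section Psi
variable {R : Type*} [CommRing R] {σ : Type*}

/-- presentation of `R[σ]_F` by `R[σ ⊕ Unit]` -/
noncomputable def psi (F : MvPolynomial σ R) :
    MvPolynomial (σ ⊕ Unit) R →ₐ[R] Localization.Away F :=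
  MvPolynomial.aeval (Sum.elim (fun j => algebraMap (MvPolynomial σ R) _ (MvPolynomial.X j))
    (fun _ => IsLocalization.Away.invSelf F))

lemma psi_rename (F : MvPolynomial σ R) (p : MvPolynomial σ R) :
    psi F (MvPolynomial.rename Sum.inl p) = algebraMap (MvPolynomial σ R) _ p := by
  have : (psi F).comp (MvPolynomial.rename Sum.inl) =
      IsScalarTower.toAlgHom R (MvPolynomial σ R) (Localization.Away F) := by
    apply MvPolynomial.algHom_ext
    intro j
    simp [psi]
  exact congrArg (fun g : MvPolynomial σ R →ₐ[R] Localization.Away F => g p) this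

lemma psi_X_inr (F : MvPolynomial σ R) :
    psi F (MvPolynomial.X (Sum.inr ())) = IsLocalization.Away.invSelf F := by
  simp [psi]

lemma psi_surjective (F : MvPolynomial σ R) : Function.Surjective (psi F) := by
  intro z
  obtain ⟨p, m, rfl⟩ := away_eq_mul_invSelf_pow F z
  refine ⟨MvPolynomial.rename Sum.inl p * MvPolynomial.X (Sum.inr ()) ^ m, ?_⟩
  rw [map_mul, map_pow, psi_rename, psi_X_inr]

variable {A : Type*} [CommRing A] [Algebra R A]

/-- the induced presentation of `A_{α F}` -/
noncomputable def beta (α : MvPolynomial σ R →ₐ[R] A) (F : MvPolynomial σ R) :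
    MvPolynomial (σ ⊕ Unit) R →ₐ[R] Localization.Away (α F) :=
  MvPolynomial.aeval (Sum.elim (fun j => algebraMap A _ (α (MvPolynomial.X j)))
    (fun _ => IsLocalization.Away.invSelf (α F)))

lemma beta_eq (α : MvPolynomial σ R →ₐ[R] A) (F : MvPolynomial σ R) :
    (beta α F).toRingHom = (Localization.awayMap α.toRingHom F).comp (psi F).toRingHom := by
  apply MvPolynomial.ringHom_ext
  · intro c
    show beta α F (MvPolynomial.C c) = Localization.awayMap α.toRingHom F (psi F (MvPolynomial.C c))
    rw [beta, psi, MvPolynomial.aeval_C, MvPolynomial.aeval_C,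
      IsScalarTower.algebraMap_apply R (MvPolynomial σ R) (Localization.Away F),
      Localization.awayMap, IsLocalization.Away.map, IsLocalization.map_eq,
      IsScalarTower.algebraMap_apply R A (Localization.Away (α F))]
    congr 1
    exact (α.commutes c).symm
  · rintro (j | u)
    · show beta α F (MvPolynomial.X (Sum.inl j)) =
        Localization.awayMap α.toRingHom F (psi F (MvPolynomial.X (Sum.inl j)))
      rw [beta, psi, MvPolynomial.aeval_X, MvPolynomial.aeval_X, Sum.elim_inl, Sum.elim_inl,
        Localization.awayMap, IsLocalization.Away.map, IsLocalization.map_eq]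
      rfl
    · show beta α F (MvPolynomial.X (Sum.inr u)) =
        Localization.awayMap α.toRingHom F (psi F (MvPolynomial.X (Sum.inr u)))
      rw [beta, psi, MvPolynomial.aeval_X, MvPolynomial.aeval_X, Sum.elim_inr, Sum.elim_inr,
        Localization.awayMap, IsLocalization.Away.map]
      unfold IsLocalization.Away.invSelf
      rw [IsLocalization.map_mk']
      simp

lemma beta_surjective (α : MvPolynomial σ R →ₐ[R] A) (hα : Function.Surjective α)
    (F : MvPolynomial σ R) : Function.Surjective (beta α F) := by
  have : (beta α F : MvPolynomial (σ ⊕ Unit) R → Localization.Away (α F)) =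
      (Localization.awayMap α.toRingHom F) ∘ (psi F) := by
    ext x
    exact congrArg (fun g : MvPolynomial (σ ⊕ Unit) R →+* Localization.Away (α F) => g x)
      (beta_eq α F)
  rw [this]
  exact (awayMap_surjective α.toRingHom hα F).comp (psi_surjective F)

end Psi

section LocTransfer
variable {P A : Type*} [CommRing P] [CommRing A] [Algebra P A]
  {M : Type*} [AddCommGroup M] [Module A M] [Module P M] [IsScalarTower P A M]

/-- If the `A`-localization `M_{f}` (with `f` the image of `F`) is finitely presented through
`P_F → A_f`, then the `P`-localization `M_F` is finitely presented over `P_F`. -/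
lemma loc_transfer (F : P)
    (h : FPThrough (Localization.awayMap (algebraMap P A) F)
      (LocalizedModule (Submonoid.powers (algebraMap P A F)) M)) :
    Module.FinitePresentation (Localization.Away F) (LocalizedModule (Submonoid.powers F) M) := by
  let N := LocalizedModule (Submonoid.powers (algebraMap P A F)) M
  let φ := Localization.awayMap (algebraMap P A) F
  let _ : Module (Localization.Away F) N := Module.compHom N φ
  have hfp : Module.FinitePresentation (Localization.Away F) N := h
  have tower : IsScalarTower P (Localization.Away F) N := by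
    refine ⟨fun p x n => ?_⟩
    show φ (p • x) • n = p • (φ x • n)
    rw [Algebra.smul_def, map_mul]
    have : φ (algebraMap P (Localization.Away F) p) =
        algebraMap A (Localization.Away (algebraMap P A F)) (algebraMap P A p) := by
      show Localization.awayMap (algebraMap P A) F _ = _
      rw [Localization.awayMap, IsLocalization.Away.map, IsLocalization.map_eq]
    rw [this, mul_smul, algebraMap_smul, algebraMap_smul]
  have hloc : IsLocalizedModule (Submonoid.powers F)
      ((LocalizedModule.mkLinearMap (Submonoid.powers (algebraMap P A F)) M).restrictScalars P) :=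
    IsLocalizedModule.restrictScalars_powers F _
  let e₀ : LocalizedModule (Submonoid.powers F) M ≃ₗ[P] N :=
    IsLocalizedModule.linearEquiv (Submonoid.powers F)
      (LocalizedModule.mkLinearMap (Submonoid.powers F) M)
      ((LocalizedModule.mkLinearMap (Submonoid.powers (algebraMap P A F)) M).restrictScalars P)
  let e : LocalizedModule (Submonoid.powers F) M ≃ₗ[Localization.Away F] N :=
    e₀.extendScalarsOfIsLocalization (Submonoid.powers F) (Localization.Away F)
  exact Module.FinitePresentation.of_equiv e.symm

end LocTransfer

section Glue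
variable {P A : Type*} [CommRing P] [CommRing A] [Algebra P A]
  {M : Type*} [AddCommGroup M] [Module A M] [Module P M] [IsScalarTower P A M]

lemma fp_of_cover {r : ℕ} (hs : Function.Surjective (algebraMap P A)) (F : Fin r → P)
    (hF : Ideal.span (Set.range (fun i => algebraMap P A (F i))) = ⊤)
    (h : ∀ i, Module.FinitePresentation (Localization.Away (F i))
      (LocalizedModule (Submonoid.powers (F i)) M)) :
    Module.FinitePresentation P M := by
  have h1 : (1 : A) ∈ Ideal.span (Set.range (fun i => algebraMap P A (F i))) := by
    rw [hF]; trivial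
  obtain ⟨c, hc⟩ := (Ideal.mem_span_range_iff_exists_fun).mp h1
  choose C hC using fun i => hs (c i)
  set G : P := 1 - ∑ i, C i * F i with hG
  have hG0 : algebraMap P A G = 0 := by
    rw [hG, map_sub, map_one, map_sum, ← hc, sub_eq_zero]
    refine Finset.sum_congr rfl fun i _ => ?_
    rw [map_mul, hC]
  let s : Set P := insert G (Set.range F)
  have hs_top : Ideal.span s = ⊤ := by
    rw [Ideal.eq_top_iff_one]
    have e : (1 : P) = G + ∑ i, C i * F i := by rw [hG]; ring
    rw [e]
    refine Ideal.add_mem _ (Ideal.subset_span (Set.mem_insert _ _)) ?_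
    refine Ideal.sum_mem _ fun i _ => ?_
    exact Ideal.mul_mem_left _ _ (Ideal.subset_span (Set.mem_insert_of_mem _ ⟨i, rfl⟩))
  refine Module.FinitePresentation.of_localizationSpan s hs_top ?_
  rintro ⟨g, hg⟩
  rcases hg with rfl | ⟨i, rfl⟩
  · have : Subsingleton (LocalizedModule.Away G M) := by
      rw [LocalizedModule.subsingleton_iff]
      intro m
      refine ⟨G, Submonoid.mem_powers G, ?_⟩
      rw [← algebraMap_smul A G m, hG0, zero_smul]
    infer_instance
  · exact h i

end Glue

end Groth.Agent.Helper9.RelFP
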